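import Cfsg.Prelude.Def_Blocks
import Mathlib.GroupTheory.Nilpotent
import Mathlib.GroupTheory.PGroup
import Mathlib.Algebra.BigOperators.Finprod

/-!
# Cancellation in the sum over normal chains of `p`-subgroups

`sum_chains`: for a `p`-element `x ≠ 1`, the alternating sum over the normal chains stabilised by `x` of any
function of the centraliser of `x` in the stabiliser of the chain reduces to the chain `{⟨x⟩}`.
-/

set_option autoImplicit false

noncomputable section

namespace CfsgLib.Blocks.ChainSum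

open scoped Classical

universe u

variable {G : Type u} [Group G] [Fintype G] {p : ℕ} [hp : Fact p.Prime]

/-- A normal chain of nontrivial `p`-subgroups. -/
def IsNChain (p : ℕ) (s : Finset (Subgroup G)) : Prop :=
  s.Nonempty ∧ (∀ Q ∈ s, ∀ R ∈ s, Q ≤ R ∨ R ≤ Q) ∧ (∀ Q ∈ s, Q ≠ ⊥ ∧ IsPGroup p Q) ∧
    ∃ T ∈ s, ∀ Q ∈ s, Q ≤ T ∧ T ≤ Subgroup.normalizer ((Q : Subgroup G) : Set G)

/-- The stabiliser of a chain. -/
def stabChain (s : Finset (Subgroup G)) : Subgroup G :=
  ⨅ Q ∈ s, Subgroup.normalizer ((Q : Subgroup G) : Set G)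

theorem mem_stabChain {s : Finset (Subgroup G)} {g : G} :
    g ∈ stabChain s ↔ ∀ Q ∈ s, Q.map (MulAut.conj g).toMonoidHom = Q := by
  simp only [stabChain, Subgroup.mem_iInf, Subgroup.mem_normalizer_iff_map_conj_eq]
  rfl

theorem sup_mem_chain {s : Finset (Subgroup G)} (hne : s.Nonempty)
    (hc : ∀ Q ∈ s, ∀ R ∈ s, Q ≤ R ∨ R ≤ Q) : s.sup id ∈ s := by
  induction hne using Finset.Nonempty.cons_induction with
  | singleton a => simp
  | cons a t ha ht ih =>
    rw [Finset.cons_eq_insert, Finset.sup_insert, id]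
    have h1 := ih fun Q hQ R hR => hc Q (Finset.mem_cons_of_mem hQ) R (Finset.mem_cons_of_mem hR)
    rcases hc a (Finset.mem_cons_self a t) _ (Finset.mem_cons_of_mem h1) with h | h
    · rw [sup_eq_right.mpr h]; exact Finset.mem_insert_of_mem h1
    · rw [sup_eq_left.mpr h]; exact Finset.mem_insert_self _ _

variable (x : G)

/-- The members of a chain avoiding `x`. -/
def avoid (s : Finset (Subgroup G)) : Finset (Subgroup G) := s.filter fun Q => x ∉ Q

/-- The largest member joined with `x`. -/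
def top' (s : Finset (Subgroup G)) : Subgroup G := s.sup id ⊔ Subgroup.zpowers x

/-- The conjugates of `x` under `top'`. -/
def ncl (Z : Subgroup G) : Subgroup G := Subgroup.closure {y | ∃ z ∈ Z, z * x * z⁻¹ = y}

/-- The member that is toggled. -/
def pivot (s : Finset (Subgroup G)) : Subgroup G := (avoid x s).sup id ⊔ ncl x (top' x s)

/-- The involution. -/
def toggle (s : Finset (Subgroup G)) : Finset (Subgroup G) :=
  if pivot x s ∈ s then s.erase (pivot x s) else insert (pivot x s) s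

variable {x}

theorem mem_ncl (Z : Subgroup G) : x ∈ ncl x Z := Subgroup.subset_closure ⟨1, Z.one_mem, by simp⟩

theorem ncl_le {Z : Subgroup G} (hx : x ∈ Z) : ncl x Z ≤ Z :=
  (Subgroup.closure_le _).mpr fun y ⟨z, hz, h⟩ => h ▸ Z.mul_mem (Z.mul_mem hz hx) (Z.inv_mem hz)

theorem map_ncl {Z : Subgroup G} {g : G} (hg : Z.map (MulAut.conj g).toMonoidHom = Z)
    (hx : ∃ z ∈ Z, g * x * g⁻¹ = z * x * z⁻¹) : (ncl x Z).map (MulAut.conj g).toMonoidHom = ncl x Z := by
  obtain ⟨w, hw, hwx⟩ := hx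
  refine Subgroup.eq_of_le_of_card_ge ?_ (Subgroup.card_map_of_injective
    (MulEquiv.injective (MulAut.conj g))).ge
  rw [ncl, MonoidHom.map_closure, Subgroup.closure_le]
  rintro _ ⟨y, ⟨z, hz, rfl⟩, rfl⟩
  refine Subgroup.subset_closure ⟨(g * z * g⁻¹) * w, Z.mul_mem ?_ hw, ?_⟩
  · conv_lhs => rw [← hg]
    exact Subgroup.mem_map.mpr ⟨z, hz, by simp⟩
  · calc (g * z * g⁻¹) * w * x * ((g * z * g⁻¹) * w)⁻¹
        = g * z * g⁻¹ * (w * x * w⁻¹) * (g * z * g⁻¹)⁻¹ := by group
      _ = g * z * g⁻¹ * (g * x * g⁻¹) * (g * z * g⁻¹)⁻¹ := by rw [hwx]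
      _ = (MulAut.conj g).toMonoidHom (z * x * z⁻¹) := by simp [mul_assoc]

theorem map_conj_zpowers_self {g : G} (hg : g * x * g⁻¹ = x) :
    (Subgroup.zpowers x).map (MulAut.conj g).toMonoidHom = Subgroup.zpowers x := by
  rw [MonoidHom.map_zpowers]
  simp [hg]

theorem map_sup_id {t : Finset (Subgroup G)} {g : G}
    (hg : ∀ Q ∈ t, Q.map (MulAut.conj g).toMonoidHom = Q) :
    (t.sup id).map (MulAut.conj g).toMonoidHom = t.sup id := by
  induction t using Finset.induction_on with
  | empty => simp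
  | insert a t ha ih =>
    rw [Finset.sup_insert, id, Subgroup.map_sup, hg a (Finset.mem_insert_self _ _),
      ih fun Q hQ => hg Q (Finset.mem_insert_of_mem hQ)]

variable {s : Finset (Subgroup G)}

/-- An element centralising `x` and normalising the chain normalises the pivot. -/
theorem map_pivot {g : G} (hg : g ∈ stabChain s) (hgx : g * x * g⁻¹ = x) :
    (pivot x s).map (MulAut.conj g).toMonoidHom = pivot x s := by
  have h := mem_stabChain.mp hg
  have hZ : (top' x s).map (MulAut.conj g).toMonoidHom = top' x s := by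
    rw [top', Subgroup.map_sup, map_sup_id h, map_conj_zpowers_self hgx]
  rw [pivot, Subgroup.map_sup, map_sup_id (t := avoid x s) fun Q hQ => h Q (Finset.mem_filter.mp hQ).1,
    map_ncl hZ ⟨1, one_mem _, by simpa using hgx⟩]

variable (hs : IsNChain p s) (hxs : x ∈ stabChain s) (hxp : ∃ k : ℕ, orderOf x = p ^ k)
include hs

omit hp in
theorem chain_sup_mem : s.sup id ∈ s := sup_mem_chain hs.1 hs.2.1

omit hp in
theorem sup_le_stab : s.sup id ≤ stabChain s := by
  obtain ⟨T, hT, hTQ⟩ := hs.2.2.2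
  refine le_trans (Finset.sup_le fun Q hQ => (hTQ Q hQ).1) ?_
  exact le_iInf₂ fun Q hQ => (hTQ Q hQ).2

include hxs

omit hp in
theorem top'_le_stab : top' x s ≤ stabChain s :=
  sup_le (sup_le_stab hs) (Subgroup.zpowers_le.mpr hxs)

omit hp in
theorem x_mem_top' : x ∈ top' x s := (le_sup_right : _ ≤ top' x s) (Subgroup.mem_zpowers x)

include hxp

theorem isPGroup_top' : IsPGroup p (top' x s) := by
  obtain ⟨k, hk⟩ := hxp
  refine IsPGroup.to_sup_of_normal_left' (hs.2.2.1 _ (chain_sup_mem hs)).2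
    (IsPGroup.of_card (n := k) (by rw [Nat.card_zpowers, hk])) ?_
  rw [Subgroup.zpowers_le]
  exact Subgroup.mem_normalizer_iff_map_conj_eq.mpr (mem_stabChain.mp hxs _ (chain_sup_mem hs))

omit hxp hp in
theorem le_top' {Q : Subgroup G} (hQ : Q ∈ s) : Q ≤ top' x s :=
  le_trans (Finset.le_sup (f := id) hQ) le_sup_left

omit hxp hp in
theorem pivot_le_top' : pivot x s ≤ top' x s :=
  sup_le (Finset.sup_le fun Q hQ => le_top' hs hxs (Finset.mem_filter.mp hQ).1) (ncl_le (x_mem_top' hs hxs))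

omit hxp hp in
theorem top'_normalizes {g : G} (hg : g ∈ top' x s) :
    (pivot x s).map (MulAut.conj g).toMonoidHom = pivot x s := by
  have h := mem_stabChain.mp (top'_le_stab hs hxs hg)
  have hZ : (top' x s).map (MulAut.conj g).toMonoidHom = top' x s :=
    Subgroup.mem_normalizer_iff_map_conj_eq.mp (Subgroup.le_normalizer hg)
  rw [pivot, Subgroup.map_sup, map_sup_id (t := avoid x s) fun Q hQ => h Q (Finset.mem_filter.mp hQ).1,
    map_ncl hZ ⟨g, hg, rfl⟩]

omit hxp hp in
theorem mem_pivot : x ∈ pivot x s := (le_sup_right : _ ≤ pivot x s) (mem_ncl _)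

omit hxp hp in
theorem pivot_le {Q : Subgroup G} (hQ : Q ∈ s) (hxQ : x ∈ Q) : pivot x s ≤ Q := by
  refine sup_le (Finset.sup_le fun R hR => ?_) ((Subgroup.closure_le _).mpr ?_)
  · obtain ⟨hRs, hxR⟩ := Finset.mem_filter.mp hR
    rcases hs.2.1 R hRs Q hQ with h | h
    · exact h
    · exact absurd (h hxQ) hxR
  · rintro y ⟨z, hz, rfl⟩
    have h := mem_stabChain.mp (top'_le_stab hs hxs hz) Q hQ
    rw [← h]
    exact Subgroup.mem_map.mpr ⟨x, hxQ, rfl⟩

/-- Inserting the pivot. -/
theorem nchain_insert (hx0 : x ≠ 1) : IsNChain p (insert (pivot x s) s) := by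
  have hY : pivot x s ≤ top' x s := pivot_le_top' hs hxs
  have hcomp : ∀ Q ∈ s, Q ≤ pivot x s ∨ pivot x s ≤ Q := fun Q hQ => by
    by_cases hxQ : x ∈ Q
    · exact Or.inr (pivot_le hs hxs hQ hxQ)
    · exact Or.inl (le_trans (Finset.le_sup (f := id) (Finset.mem_filter.mpr ⟨hQ, hxQ⟩)) le_sup_left)
  by_cases hx1 : pivot x s = ⊥
  · exfalso
    have h1 := mem_pivot hs hxs
    rw [hx1, Subgroup.mem_bot] at h1
    exact hx0 h1
  have hc : ∀ Q ∈ insert (pivot x s) s, ∀ R ∈ insert (pivot x s) s, Q ≤ R ∨ R ≤ Q := by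
    intro Q hQ R hR
    rcases Finset.mem_insert.mp hQ with rfl | hQ <;> rcases Finset.mem_insert.mp hR with rfl | hR
    · exact Or.inl le_rfl
    · exact (hcomp R hR).symm
    · exact hcomp Q hQ
    · exact hs.2.1 Q hQ R hR
  have hmem := sup_mem_chain (Finset.insert_nonempty _ _) hc
  refine ⟨Finset.insert_nonempty _ _, hc, fun Q hQ => ?_, _, hmem, fun Q hQ => ⟨Finset.le_sup (f := id) hQ, ?_⟩⟩
  · rcases Finset.mem_insert.mp hQ with rfl | hQ
    · exact ⟨hx1, (isPGroup_top' hs hxs hxp).to_le hY⟩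
    · exact hs.2.2.1 Q hQ
  · have hle : (insert (pivot x s) s).sup id ≤ top' x s := Finset.sup_le fun R hR => by
      rcases Finset.mem_insert.mp hR with rfl | hR
      exacts [hY, le_top' hs hxs hR]
    intro g hg
    rw [Subgroup.mem_normalizer_iff_map_conj_eq]
    rcases Finset.mem_insert.mp hQ with rfl | hQ
    · exact top'_normalizes hs hxs (hle hg)
    · exact mem_stabChain.mp (top'_le_stab hs hxs (hle hg)) Q hQ

omit hxs hxp hs in
theorem avoid_insert {Y : Subgroup G} (hY : x ∈ Y) : avoid x (insert Y s) = avoid x s := by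
  rw [avoid, avoid, Finset.filter_insert, if_neg (not_not.mpr hY)]

omit hxs hxp hs in
theorem avoid_erase {Y : Subgroup G} (hY : x ∈ Y) : avoid x (s.erase Y) = avoid x s := by
  rw [avoid, avoid, Finset.filter_erase, Finset.erase_eq_of_notMem]
  exact fun h => (Finset.mem_filter.mp h).2 hY

omit hxp in
theorem top'_insert : top' x (insert (pivot x s) s) = top' x s := by
  refine le_antisymm (sup_le (Finset.sup_le fun Q hQ => ?_) le_sup_right)
    (sup_le_sup_right (Finset.sup_mono (Finset.subset_insert _ _)) _)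
  rcases Finset.mem_insert.mp hQ with rfl | hQ
  exacts [pivot_le_top' hs hxs, le_top' hs hxs hQ]

omit hxp in
theorem pivot_insert : pivot x (insert (pivot x s) s) = pivot x s := by
  rw [pivot, avoid_insert (mem_pivot hs hxs), top'_insert hs hxs]; rfl

omit hxp hxs hs in
/-- In a `p`-group a subgroup supplementing a normal closure contains a generator. -/
theorem sup_eq_top_of_ncl {Z R : Subgroup G} (hZ : IsPGroup p Z) (hR : R ≤ Z) (hxZ : x ∈ Z)
    (h : R ⊔ ncl x Z = Z) : R ⊔ Subgroup.zpowers x = Z := by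
  by_contra hne
  set S := (R ⊔ Subgroup.zpowers x).subgroupOf Z with hS
  have hle : R ⊔ Subgroup.zpowers x ≤ Z := sup_le hR (Subgroup.zpowers_le.mpr hxZ)
  have hS1 : S ≠ ⊤ := fun h1 => hne (le_antisymm hle fun z hz => by
    have : (⟨z, hz⟩ : Z) ∈ S := h1 ▸ Subgroup.mem_top _
    exact this)
  obtain ⟨m, hm, hSm⟩ := (eq_top_or_exists_le_coatom S).resolve_left hS1
  have := hZ.isNilpotent
  have hn : m.Normal := Subgroup.NormalizerCondition.normal_of_coatom m Group.normalizerCondition_of_isNilpotent hm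
  have h1 : Z ≤ m.map Z.subtype := by
    conv_lhs => rw [← h]
    refine sup_le (fun r hr => ⟨⟨r, hR hr⟩, hSm ?_, rfl⟩) ((Subgroup.closure_le _).mpr ?_)
    · exact (le_sup_left : R ≤ R ⊔ Subgroup.zpowers x) hr
    · rintro y ⟨z, hz, rfl⟩
      exact ⟨(⟨z, hz⟩ : Z) * ⟨x, hxZ⟩ * (⟨z, hz⟩ : Z)⁻¹,
        hn.conj_mem _ (hSm ((le_sup_right : _ ≤ R ⊔ Subgroup.zpowers x) (Subgroup.mem_zpowers x))) _, rfl⟩
  refine hm.1 (eq_top_iff.mpr fun z _ => ?_)
  obtain ⟨w, hw, hwz⟩ := h1 z.2
  rwa [Subtype.ext hwz] at hw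

/-- The chains with pivot and not the exceptional one. -/
theorem erase_spec (hs0 : s ≠ {Subgroup.zpowers x}) (hYs : pivot x s ∈ s) :
    IsNChain p (s.erase (pivot x s)) ∧ top' x (s.erase (pivot x s)) = top' x s ∧
      pivot x (s.erase (pivot x s)) = pivot x s := by
  have hT := chain_sup_mem hs
  have hkey : top' x (s.erase (pivot x s)) = top' x s ∧ (s.erase (pivot x s)).Nonempty := by
    by_cases hYT : pivot x s = s.sup id
    · -- the pivot is the largest member
      have hxT : x ∈ s.sup id := hYT ▸ mem_pivot hs hxs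
      have hZ : top' x s = s.sup id := sup_eq_left.mpr (Subgroup.zpowers_le.mpr hxT)
      have hR : (avoid x s).sup id ⊔ Subgroup.zpowers x = top' x s :=
        sup_eq_top_of_ncl (isPGroup_top' hs hxs hxp)
          (Finset.sup_le fun Q hQ => le_top' hs hxs (Finset.mem_filter.mp hQ).1) (x_mem_top' hs hxs)
          (by rw [hZ]; conv_rhs => rw [← hYT, pivot, hZ])
      have her : s.erase (pivot x s) = avoid x s := by
        refine Finset.ext fun Q => ⟨fun hQ => ?_, fun hQ => ?_⟩
        · obtain ⟨hQne, hQ⟩ := Finset.mem_erase.mp hQ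
          refine Finset.mem_filter.mpr ⟨hQ, fun hxQ => hQne (le_antisymm ?_ (pivot_le hs hxs hQ hxQ))⟩
          rw [hYT]; exact Finset.le_sup (f := id) hQ
        · obtain ⟨hQ, hxQ⟩ := Finset.mem_filter.mp hQ
          exact Finset.mem_erase.mpr ⟨fun h => hxQ (h ▸ mem_pivot hs hxs), hQ⟩
      refine ⟨by rw [her, ← hR]; rfl, ?_⟩
      rw [her, Finset.nonempty_iff_ne_empty]
      intro he
      rw [he, Finset.sup_empty, bot_sup_eq] at hR
      refine hs0 (Finset.eq_singleton_iff_unique_mem.mpr ⟨?_, fun Q hQ => ?_⟩)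
      · rw [hR, hZ]; exact hT
      · have hxQ : x ∈ Q := by
          by_contra hxQ
          have : Q ∈ avoid x s := Finset.mem_filter.mpr ⟨hQ, hxQ⟩
          rw [he] at this
          exact Finset.notMem_empty _ this
        refine le_antisymm (hR ▸ le_top' hs hxs hQ) (Subgroup.zpowers_le.mpr hxQ)
    · have hTm : s.sup id ∈ s.erase (pivot x s) := Finset.mem_erase.mpr ⟨Ne.symm hYT, hT⟩
      refine ⟨?_, ⟨_, hTm⟩⟩
      rw [top', top']
      congr 1
      exact le_antisymm (Finset.sup_mono (Finset.erase_subset _ _)) (Finset.le_sup (f := id) hTm)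
  obtain ⟨hZ, hne⟩ := hkey
  have hc : ∀ Q ∈ s.erase (pivot x s), ∀ R ∈ s.erase (pivot x s), Q ≤ R ∨ R ≤ Q := fun Q hQ R hR =>
    hs.2.1 Q (Finset.mem_of_mem_erase hQ) R (Finset.mem_of_mem_erase hR)
  refine ⟨⟨hne, hc, fun Q hQ => hs.2.2.1 Q (Finset.mem_of_mem_erase hQ), _, sup_mem_chain hne hc,
    fun Q hQ => ⟨Finset.le_sup (f := id) hQ, ?_⟩⟩, hZ, ?_⟩
  · intro g hg
    have hg' : g ∈ s.sup id := (Finset.sup_mono (f := id) (Finset.erase_subset _ _) : (s.erase (pivot x s)).sup id ≤ s.sup id) hg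
    exact Subgroup.mem_normalizer_iff_map_conj_eq.mpr
      (mem_stabChain.mp (sup_le_stab hs hg') Q (Finset.mem_of_mem_erase hQ))
  · rw [pivot, avoid_erase (mem_pivot hs hxs), hZ]; rfl

omit hxp in
theorem stab_inf_insert :
    stabChain (insert (pivot x s) s) ⊓ Subgroup.centralizer ({x} : Set G) =
      stabChain s ⊓ Subgroup.centralizer ({x} : Set G) := by
  ext g
  simp only [Subgroup.mem_inf, mem_stabChain]
  refine ⟨fun h => ⟨fun Q hQ => h.1 Q (Finset.mem_insert_of_mem hQ), h.2⟩, fun h => ⟨fun Q hQ => ?_, h.2⟩⟩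
  rcases Finset.mem_insert.mp hQ with rfl | hQ
  · refine map_pivot (mem_stabChain.mpr h.1) ?_
    rw [Subgroup.mem_centralizer_singleton_iff.mp h.2, mul_inv_cancel_right]
  · exact h.1 Q hQ

end CfsgLib.Blocks.ChainSum

namespace CfsgLib.Blocks.ChainSum

open scoped Classical

universe v

variable {G : Type v} [Group G] [Fintype G] {p : ℕ} [hp : Fact p.Prime] {x : G}

/-- **The cancellation.** -/
theorem sum_chains (hx0 : x ≠ 1) (hxp : ∃ k : ℕ, orderOf x = p ^ k) (W : Subgroup G → ℤ) :
    ∑ s ∈ Finset.univ.filter (fun s : Finset (Subgroup G) => IsNChain p s ∧ x ∈ stabChain s),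
        (-1 : ℤ) ^ (s.card - 1) * W (stabChain s ⊓ Subgroup.centralizer ({x} : Set G)) =
      W (Subgroup.centralizer ({x} : Set G)) := by
  set S := Finset.univ.filter (fun s : Finset (Subgroup G) => IsNChain p s ∧ x ∈ stabChain s) with hSd
  have hS : ∀ s, s ∈ S ↔ IsNChain p s ∧ x ∈ stabChain s := fun s => by simp [hSd]
  have hZp : IsPGroup p (Subgroup.zpowers x) := by
    obtain ⟨k, hk⟩ := hxp
    exact IsPGroup.of_card (n := k) (by rw [Nat.card_zpowers, hk])
  have hxN : ∀ g : G, g * x * g⁻¹ = x → g ∈ stabChain ({Subgroup.zpowers x} : Finset (Subgroup G)) :=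
    fun g hg => mem_stabChain.mpr fun Q hQ => by
      rw [Finset.mem_singleton.mp hQ]; exact map_conj_zpowers_self hg
  have h0 : ({Subgroup.zpowers x} : Finset (Subgroup G)) ∈ S := (hS _).mpr
    ⟨⟨Finset.singleton_nonempty _, fun Q hQ R hR => by simp_all, fun Q hQ => by
      rw [Finset.mem_singleton.mp hQ]; exact ⟨Subgroup.zpowers_ne_bot.mpr hx0, hZp⟩,
      _, Finset.mem_singleton_self _, fun Q hQ => by
        rw [Finset.mem_singleton.mp hQ]; exact ⟨le_rfl, Subgroup.le_normalizer⟩⟩, hxN x (by simp)⟩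
  rw [← Finset.add_sum_erase _ _ h0]
  have hsingle : stabChain ({Subgroup.zpowers x} : Finset (Subgroup G)) ⊓ Subgroup.centralizer ({x} : Set G) =
      Subgroup.centralizer ({x} : Set G) := inf_eq_right.mpr fun g hg => hxN g (by
    rw [Subgroup.mem_centralizer_singleton_iff.mp hg, mul_inv_cancel_right])
  rw [hsingle, Finset.card_singleton, pow_zero, one_mul, add_eq_left]
  -- everything else cancels
  have hmem : ∀ s ∈ S.erase {Subgroup.zpowers x}, toggle x s ∈ S.erase {Subgroup.zpowers x} ∧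
      pivot x (toggle x s) = pivot x s ∧
      stabChain (toggle x s) ⊓ Subgroup.centralizer ({x} : Set G) =
        stabChain s ⊓ Subgroup.centralizer ({x} : Set G) := by
    intro s hs'
    obtain ⟨hne, hs'⟩ := Finset.mem_erase.mp hs'
    obtain ⟨hs, hxs⟩ := (hS s).mp hs'
    have hxC : x ∈ Subgroup.centralizer ({x} : Set G) := Subgroup.mem_centralizer_singleton_iff.mpr rfl
    unfold toggle
    split_ifs with hY
    · obtain ⟨h1, h2, h3⟩ := erase_spec hs hxs hxp hne hY
      have hxs' : x ∈ stabChain (s.erase (pivot x s)) := mem_stabChain.mpr fun Q hQ =>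
        mem_stabChain.mp hxs Q (Finset.mem_of_mem_erase hQ)
      have h4 := stab_inf_insert h1 hxs'
      rw [h3, Finset.insert_erase hY] at h4
      refine ⟨Finset.mem_erase.mpr ⟨fun he => ?_, (hS _).mpr ⟨h1, hxs'⟩⟩, h3, h4.symm⟩
      have h5 : pivot x (s.erase (pivot x s)) = Subgroup.zpowers x := by
        rw [he]
        have h6 : avoid x ({Subgroup.zpowers x} : Finset (Subgroup G)) = ∅ := by
          rw [avoid, Finset.filter_singleton, if_neg (not_not.mpr (Subgroup.mem_zpowers x))]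
        have h7 : top' x ({Subgroup.zpowers x} : Finset (Subgroup G)) = Subgroup.zpowers x := by
          rw [top', Finset.sup_singleton, id, sup_idem]
        rw [pivot, h6, Finset.sup_empty, bot_sup_eq, h7]
        exact le_antisymm (ncl_le (Subgroup.mem_zpowers x)) (Subgroup.zpowers_le.mpr (mem_ncl _))
      have : pivot x s ∈ s.erase (pivot x s) := by
        rw [he, ← h3, h5]; exact Finset.mem_singleton_self _
      exact (Finset.mem_erase.mp this).1 rfl
    · have h1 := stab_inf_insert hs hxs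
      refine ⟨Finset.mem_erase.mpr ⟨fun he => ?_, (hS _).mpr ⟨nchain_insert hs hxs hxp hx0, ?_⟩⟩,
        pivot_insert hs hxs, h1⟩
      · have h2 : s ⊆ {Subgroup.zpowers x} := he ▸ Finset.subset_insert _ _
        exact hne (Finset.Nonempty.subset_singleton_iff hs.1 |>.mp h2)
      · exact (h1.symm ▸ (⟨hxs, hxC⟩ : x ∈ stabChain s ⊓ Subgroup.centralizer ({x} : Set G)) :
          x ∈ stabChain (insert (pivot x s) s) ⊓ Subgroup.centralizer ({x} : Set G)).1
  refine Finset.sum_involution (fun s _ => toggle x s) (fun s hs' => ?_) (fun s hs' _ => ?_)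
    (fun s hs' => (hmem s hs').1) (fun s hs' => ?_)
  · obtain ⟨h1, -, h3⟩ := hmem s hs'
    rw [h3, ← add_mul]
    have hc1 : 0 < s.card := Finset.card_pos.mpr ((hS s).mp (Finset.mem_erase.mp hs').2).1.1
    have hc2 : 0 < (toggle x s).card := Finset.card_pos.mpr ((hS _).mp (Finset.mem_erase.mp h1).2).1.1
    rw [show (-1 : ℤ) ^ (s.card - 1) + (-1 : ℤ) ^ ((toggle x s).card - 1) = 0 from ?_, zero_mul]
    unfold toggle at hc2 ⊢
    split_ifs with hY
    · rw [if_pos hY, Finset.card_erase_of_mem hY] at hc2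
      obtain ⟨n, hn⟩ : ∃ n, s.card = n + 2 := ⟨s.card - 2, by omega⟩
      rw [Finset.card_erase_of_mem hY, hn, show n + 2 - 1 = n + 1 from rfl, show n + 1 - 1 = n from rfl, pow_succ]
      ring
    · obtain ⟨n, hn⟩ : ∃ n, s.card = n + 1 := ⟨s.card - 1, by omega⟩
      rw [Finset.card_insert_of_notMem hY, hn, show n + 1 - 1 = n from rfl, show n + 1 + 1 - 1 = n + 1 from rfl,
        pow_succ]
      ring
  · intro he
    unfold toggle at he
    split_ifs at he with hY
    · exact (Finset.erase_eq_self.mp he) hY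
    · exact hY (Finset.insert_eq_self.mp he)
  · obtain ⟨-, h2, -⟩ := hmem s hs'
    show toggle x (toggle x s) = s
    conv_lhs => unfold toggle
    by_cases hY : pivot x s ∈ s
    · have ht : toggle x s = s.erase (pivot x s) := if_pos hY
      rw [ht] at h2
      simp only [if_pos hY, h2, Finset.notMem_erase, if_false, Finset.insert_erase hY]
    · have ht : toggle x s = insert (pivot x s) s := if_neg hY
      rw [ht] at h2
      simp only [if_neg hY, h2, Finset.mem_insert_self, if_true, Finset.erase_insert hY]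

end CfsgLib.Blocks.ChainSum
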