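import Cfsg.Agent.Lib.BrauerPairs.SubsectionCount
import Cfsg.Agent.Lib.Blocks.Induced

/-!
# Counting characters by elements in the pull-back of a block to a subgroup

* `blockRank_sUnion`, `card_sUnion`: a union of blocks;
* `sum_elements`: Brauer's count written as a sum over `p`-elements;
* `pull_count`: `|N| (k(b_N) - l(b_N))` as a sum over the nontrivial `p`-elements of `N`, where `b_N` is the
  union of the blocks of `N` inducing `b`.
-/

set_option autoImplicit false
set_option maxHeartbeats 1000000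

noncomputable section

namespace CfsgLib.Blocks.ChainSum

open Cfsg CfsgLib.Blocks CfsgLib.BlockArith CfsgLib.BrauerPairs
open scoped ComplexConjugate Classical

universe u

variable {p : ℕ} [hp : Fact p.Prime] {M : Ideal AlgInt} [M.IsMaximal]

/-- The regular parts of different blocks are independent. -/
theorem blockRank_union (hM : IsPModular p M) {G : Type u} [Group G] [Fintype G]
    {A B : Set (IrrCharacter G)}
    (h : ∀ χ ∈ A, ∀ ψ ∈ B, ¬ SameBlock M (χ : G → ℂ) (ψ : G → ℂ)) :
    blockRank p (A ∪ B) = blockRank p A + blockRank p B := by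
  rw [blockRank, blockRank, blockRank, Set.image_union, Submodule.span_union]
  set U := Submodule.span ℂ ((fun χ : IrrCharacter G => pRegularPart p (χ : G → ℂ)) '' A)
  set V := Submodule.span ℂ ((fun χ : IrrCharacter G => pRegularPart p (χ : G → ℂ)) '' B)
  have horth : ∀ u ∈ U, ∀ v ∈ V, ∑ g : G, u g * conj (v g) = 0 := by
    intro u hu
    induction hu using Submodule.span_induction with
    | zero => intro v _; simp
    | add a b _ _ ha hb => intro v hv; simp [add_mul, Finset.sum_add_distrib, ha v hv, hb v hv]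
    | smul c a _ ha => intro v hv; simp [mul_assoc, ← Finset.mul_sum, ha v hv]
    | mem u hu =>
      intro v hv
      induction hv using Submodule.span_induction with
      | zero => simp
      | add a b _ _ ha hb => simp [mul_add, Finset.sum_add_distrib, ha, hb]
      | smul c a _ ha => simp [mul_left_comm _ (conj c), ← Finset.mul_sum, ha]
      | mem v hv =>
        obtain ⟨χ, hχ, rfl⟩ := hu
        obtain ⟨ψ, hψ, rfl⟩ := hv
        rw [← regular_orthogonality hM (h χ hχ ψ hψ)]
        refine Finset.sum_congr rfl fun g _ => ?_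
        simp only [BlockArith.pRegularPart_apply]
        split_ifs <;> simp
  have hdisj : U ⊓ V = ⊥ := (Submodule.eq_bot_iff _).mpr fun v hv => by
    have h0 := horth v hv.1 v hv.2
    funext g
    have h1 : ∀ g, v g * conj (v g) = ((Complex.normSq (v g) : ℝ) : ℂ) := fun g => Complex.mul_conj _
    simp only [h1, ← Complex.ofReal_sum, Complex.ofReal_eq_zero] at h0
    exact Complex.normSq_eq_zero.mp
      ((Finset.sum_eq_zero_iff_of_nonneg fun x _ => Complex.normSq_nonneg _).mp h0 g (Finset.mem_univ _))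
  have h2 := Submodule.finrank_sup_add_finrank_inf_eq U V
  rw [hdisj, finrank_bot, add_zero] at h2
  exact h2

theorem sUnion_counts (hM : IsPModular p M) {G : Type u} [Group G] [Fintype G]
    (S : Finset (Set (IrrCharacter G))) (hS : ∀ β ∈ S, IsPBlock M β) :
    blockRank p (⋃ β ∈ S, β) = ∑ β ∈ S, blockRank p β ∧
      Nat.card (⋃ β ∈ S, β : Set (IrrCharacter G)) = ∑ β ∈ S, Nat.card β := by
  induction S using Finset.induction_on with
  | empty => simp [blockRank]
  | insert β T hβ ih =>
    obtain ⟨ih1, ih2⟩ := ih fun b hb => hS b (Finset.mem_insert_of_mem hb)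
    have hne : ∀ χ ∈ β, ∀ ψ ∈ (⋃ b ∈ T, b : Set (IrrCharacter G)),
        ¬ SameBlock M (χ : G → ℂ) (ψ : G → ℂ) := fun χ hχ ψ hψ hs => by
      obtain ⟨b, hb, hψb⟩ := Set.mem_iUnion₂.mp hψ
      have h1 := isPBlock_eq_blockOf (hS β (Finset.mem_insert_self _ _)) hχ
      have h2 := isPBlock_eq_blockOf (hS b (Finset.mem_insert_of_mem hb)) hψb
      exact hβ (by rw [h1, ← blockOf_eq_of_mem (χ := χ) (ψ := ψ) hs, ← h2]; exact hb)
    rw [Finset.set_biUnion_insert, blockRank_union hM hne, ih1, Finset.sum_insert hβ, Finset.sum_insert hβ,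
      ← ih2, Nat.card_coe_set_eq, Nat.card_coe_set_eq, Nat.card_coe_set_eq]
    refine ⟨rfl, Set.ncard_union_eq (Set.disjoint_left.mpr fun χ hχ hχ' => hne χ hχ χ hχ' (sameBlock_refl χ))⟩

/-- The ranks of the blocks of `H` inducing `B`, added up. -/
def rankSum {G : Type u} [Group G] (p : ℕ) (M : Ideal AlgInt) (H : Subgroup G)
    (B : Set (IrrCharacter G)) : ℕ :=
  ∑ᶠ β ∈ {β : Set (IrrCharacter H) | IsInducedBlock M H β B}, blockRank p β

/-- The characters of the blocks of `H` inducing `B`. -/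
def pull {G : Type u} [Group G] (M : Ideal AlgInt) (H : Subgroup G)
    (B : Set (IrrCharacter G)) : Set (IrrCharacter H) :=
  {ψ | ∃ β : Set (IrrCharacter H), ψ ∈ β ∧ IsInducedBlock M H β B}

variable {G : Type u} [Group G] [Fintype G]

theorem rankSum_eq (hM : IsPModular p M) (H : Subgroup G) (B : Set (IrrCharacter G)) :
    rankSum p M H B = blockRank p (pull M H B) ∧
      Nat.card (pull M H B) = ∑ β ∈ (Set.toFinite {β : Set (IrrCharacter H) | IsInducedBlock M H β B}).toFinset,
        Nat.card β := by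
  have hp' : pull M H B =
      ⋃ β ∈ (Set.toFinite {β : Set (IrrCharacter H) | IsInducedBlock M H β B}).toFinset, β := by
    ext ψ; simp [pull, and_comm]
  have h := sUnion_counts hM (Set.toFinite {β : Set (IrrCharacter H) | IsInducedBlock M H β B}).toFinset
    fun β hβ => ((Set.Finite.mem_toFinset _).mp hβ).1
  rw [hp', rankSum, finsum_mem_eq_finite_toFinset_sum _ (Set.toFinite _), h.1]
  exact ⟨rfl, h.2⟩

/-- The weight of the centralizer of a `p`-element is a class invariant. -/
theorem weight_conj (hM : IsPModular p M) {B : Set (IrrCharacter G)} (hB : IsPBlock M B) {x g : G}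
    (hxp : ∃ k : ℕ, orderOf x = p ^ k) (hxg : IsConj x g) :
    Nat.card (Subgroup.centralizer ({g} : Set G)) * rankSum p M (Subgroup.centralizer ({g} : Set G)) B =
      Nat.card (Subgroup.centralizer ({x} : Set G)) * rankSum p M (Subgroup.centralizer ({x} : Set G)) B := by
  set S := Finset.univ.filter (fun g : G => ∃ k : ℕ, orderOf g = p ^ k) with hSd
  have hS : ∀ g, g ∈ S ↔ ∃ k : ℕ, orderOf g = p ^ k := fun g => by simp [hSd]
  have hconjS : ∀ g g' : G, IsConj g g' → g ∈ S → g' ∈ S := fun g g' hc hg => by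
    obtain ⟨w, hw⟩ := isConj_iff.mp hc
    obtain ⟨k, hk⟩ := (hS g).mp hg
    exact (hS g').mpr ⟨k, by rw [← hk, ← hw]; exact (MulAut.conj w).orderOf_eq g⟩
  -- transversals
  let r : G → G := fun g => (ConjClasses.mk g).out
  have hr : ∀ g, IsConj g (r g) := fun g =>
    ConjClasses.mk_eq_mk_iff_isConj.mp (Quotient.out_eq (ConjClasses.mk g)).symm
  have hX : ∀ f : G → G, (∀ g, IsConj g (f g)) → (∀ g g', IsConj g g' → f g = f g') →
      Nat.card B = ∑ x ∈ S.image f, rankSum p M (Subgroup.centralizer ({x} : Set G)) B := by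
    intro f hf hf'
    refine card_eq_sum_subsections hM hB (S.image f) (fun x hx => ?_) fun g hg => ?_
    · obtain ⟨g, hg, rfl⟩ := Finset.mem_image.mp hx
      exact (hS _).mp (hconjS _ _ (hf g) hg)
    · refine ⟨f g, ⟨Finset.mem_image_of_mem f ((hS g).mpr hg), hf g⟩, fun x hx => ?_⟩
      obtain ⟨g', hg', rfl⟩ := Finset.mem_image.mp hx.1
      exact hf' _ _ ((hf g').trans hx.2.symm)
  have hr' : ∀ g g', IsConj g g' → r g = r g' := fun g g' h =>
    congrArg Quotient.out (ConjClasses.mk_eq_mk_iff_isConj.mpr h)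
  -- invariance
  have hinv : ∀ g ∈ S, rankSum p M (Subgroup.centralizer ({g} : Set G)) B =
      rankSum p M (Subgroup.centralizer ({r g} : Set G)) B := by
    intro g hg
    let f : G → G := fun y => if IsConj y g then g else r y
    have h1 := (hX r hr hr').symm.trans (hX f (fun y => by
      show IsConj y (if IsConj y g then g else r y)
      split_ifs with h
      exacts [h, hr y]) (fun y y' h => by
      show (if IsConj y g then g else r y) = if IsConj y' g then g else r y'
      by_cases hy : IsConj y g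
      · rw [if_pos hy, if_pos (h.symm.trans hy)]
      · rw [if_neg hy, if_neg fun hy' => hy (h.trans hy'), hr' _ _ h]))
    by_cases hgr : g = r g
    · rw [← hgr]
    have hin : r g ∈ S.image r := Finset.mem_image_of_mem r hg
    have himg : S.image f = insert g ((S.image r).erase (r g)) := by
      ext z
      simp only [Finset.mem_image, Finset.mem_insert, Finset.mem_erase]
      constructor
      · rintro ⟨y, hy, rfl⟩
        by_cases hyg : IsConj y g
        · exact Or.inl (if_pos hyg)
        · refine Or.inr ⟨fun h => hyg ?_, y, hy, (if_neg hyg).symm⟩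
          rw [show f y = r y from if_neg hyg] at h
          exact (hr y).trans (h ▸ (hr g).symm)
      · rintro (rfl | ⟨hne, y, hy, rfl⟩)
        · exact ⟨z, hg, if_pos (IsConj.refl _)⟩
        · exact ⟨y, hy, if_neg fun h => hne (hr' _ _ h)⟩
    have hnot : g ∉ (S.image r).erase (r g) := fun h => by
      obtain ⟨-, h2⟩ := Finset.mem_erase.mp h
      obtain ⟨y, -, hy⟩ := Finset.mem_image.mp h2
      exact hgr (hy.symm.trans (hr' _ _ (hy ▸ hr y)))
    rw [himg, Finset.sum_insert hnot, ← Finset.add_sum_erase _ _ hin] at h1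
    omega
  have hkey : ∀ g ∈ S,
      Nat.card (Subgroup.centralizer ({g} : Set G)) * rankSum p M (Subgroup.centralizer ({g} : Set G)) B =
        Nat.card (Subgroup.centralizer ({r g} : Set G)) * rankSum p M (Subgroup.centralizer ({r g} : Set G)) B := by
    intro g hgS
    rw [hinv g hgS]
    congr 1
    obtain ⟨w, hw⟩ := isConj_iff.mp (hr g)
    have := Subgroup.card_map_of_injective (K := Subgroup.centralizer ({g} : Set G))
      (f := (MulAut.conj w).toMonoidHom) (MulEquiv.injective (MulAut.conj w))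
    rw [← this]
    congr 2
    ext z
    rw [Subgroup.mem_map_equiv, Subgroup.mem_centralizer_singleton_iff, Subgroup.mem_centralizer_singleton_iff,
      ← hw, MulAut.conj_symm_apply]
    constructor <;> intro h
    · calc z * (w * g * w⁻¹) = w * (w⁻¹ * z * w * g) * w⁻¹ := by group
        _ = w * (g * (w⁻¹ * z * w)) * w⁻¹ := by rw [h]
        _ = _ := by group
    · calc w⁻¹ * z * w * g = w⁻¹ * (z * (w * g * w⁻¹)) * w := by group
        _ = w⁻¹ * (w * g * w⁻¹ * z) * w := by rw [h]
        _ = _ := by group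
  rw [hkey g (hconjS _ _ hxg ((hS x).mpr hxp)), hkey x ((hS x).mpr hxp), hr' _ _ hxg]

/-- Brauer's count over elements. -/
theorem sum_elements (hM : IsPModular p M) {B : Set (IrrCharacter G)} (hB : IsPBlock M B) :
    ∑ g ∈ Finset.univ.filter (fun g : G => ∃ k : ℕ, orderOf g = p ^ k),
        Nat.card (Subgroup.centralizer ({g} : Set G)) * rankSum p M (Subgroup.centralizer ({g} : Set G)) B =
      Nat.card G * Nat.card B := by
  set S := Finset.univ.filter (fun g : G => ∃ k : ℕ, orderOf g = p ^ k) with hSd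
  have hS : ∀ g, g ∈ S ↔ ∃ k : ℕ, orderOf g = p ^ k := fun g => by simp [hSd]
  have hconjS : ∀ g g' : G, IsConj g g' → g ∈ S → g' ∈ S := fun g g' hc hg => by
    obtain ⟨w, hw⟩ := isConj_iff.mp hc
    obtain ⟨k, hk⟩ := (hS g).mp hg
    exact (hS g').mpr ⟨k, by rw [← hk, ← hw]; exact (MulAut.conj w).orderOf_eq g⟩
  -- transversals
  let r : G → G := fun g => (ConjClasses.mk g).out
  have hr : ∀ g, IsConj g (r g) := fun g =>
    ConjClasses.mk_eq_mk_iff_isConj.mp (Quotient.out_eq (ConjClasses.mk g)).symm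
  have hX : ∀ f : G → G, (∀ g, IsConj g (f g)) → (∀ g g', IsConj g g' → f g = f g') →
      Nat.card B = ∑ x ∈ S.image f, rankSum p M (Subgroup.centralizer ({x} : Set G)) B := by
    intro f hf hf'
    refine card_eq_sum_subsections hM hB (S.image f) (fun x hx => ?_) fun g hg => ?_
    · obtain ⟨g, hg, rfl⟩ := Finset.mem_image.mp hx
      exact (hS _).mp (hconjS _ _ (hf g) hg)
    · refine ⟨f g, ⟨Finset.mem_image_of_mem f ((hS g).mpr hg), hf g⟩, fun x hx => ?_⟩
      obtain ⟨g', hg', rfl⟩ := Finset.mem_image.mp hx.1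
      exact hf' _ _ ((hf g').trans hx.2.symm)
  have hr' : ∀ g g', IsConj g g' → r g = r g' := fun g g' h =>
    congrArg Quotient.out (ConjClasses.mk_eq_mk_iff_isConj.mpr h)
  rw [← Finset.sum_fiberwise_of_maps_to (t := S.image r) (g := r) (fun g hg => Finset.mem_image_of_mem r hg),
    hX r hr hr', Finset.mul_sum]
  refine Finset.sum_congr rfl fun x hx => ?_
  have hcl : ∀ g ∈ S.filter (fun g => r g = x),
      Nat.card (Subgroup.centralizer ({g} : Set G)) * rankSum p M (Subgroup.centralizer ({g} : Set G)) B =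
        Nat.card (Subgroup.centralizer ({x} : Set G)) * rankSum p M (Subgroup.centralizer ({x} : Set G)) B := by
    intro g hg
    obtain ⟨hgS, rfl⟩ := Finset.mem_filter.mp hg
    exact (weight_conj hM hB ((hS g).mp hgS) (hr g)).symm
  rw [Finset.sum_congr rfl hcl, Finset.sum_const, smul_eq_mul, ← mul_assoc]
  congr 1
  obtain ⟨g₀, hg₀, hxg⟩ := Finset.mem_image.mp hx
  have hfil : S.filter (fun g => r g = x) = Finset.univ.filter (IsConj x) := by
    ext g
    simp only [Finset.mem_filter, Finset.mem_univ, true_and]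
    refine ⟨fun h => h.2 ▸ (hr g).symm, fun h => ⟨hconjS _ _ h (hxg ▸ hconjS _ _ (hr g₀) hg₀), ?_⟩⟩
    rw [← hr' _ _ h, ← hxg, ← hr' _ _ (hr g₀)]
  rw [hfil, mul_comm]
  have h1 := sum_conj_apply x fun _ : G => (1 : ℂ)
  simp only [Finset.sum_const, nsmul_one, Finset.card_univ, ← Nat.card_eq_fintype_card] at h1
  exact_mod_cast h1.symm

/-- Transport of a block of a subgroup of `N` to the subgroup of `G`. -/
theorem bomega_tirr {N : Subgroup G} {C : Subgroup N} {H : Subgroup G} (e : C ≃* H)
    (he : ∀ c : C, ((e c : H) : G) = ((c : N) : G)) (ξ : IrrCharacter C) (g : G) :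
    bomega (M := M) (tirr e ξ) (rclass H M g) = bomega ξ (resZ C M (rclass N M g)) := by
  rw [bomega_apply, bomega_apply]
  congr 1
  apply Subtype.ext
  rw [coe_zomega_rclass, coe_zomega, coe_resZ, rclass, coe_resZ, coe_zclass, omega, charLin_apply,
    inducedCentralChar, finsum_mem_eq_finite_toFinset_sum _ (Set.toFinite _), Finset.sum_div]
  have h1 : ((tirr e ξ : IrrCharacter H) : H → ℂ) 1 = (ξ : C → ℂ) 1 := congrArg (ξ : C → ℂ) (map_one e.symm)
  rw [show (Set.toFinite {h : H | IsConj g (h : G)}).toFinset = Finset.univ.filter (fun h : H => IsConj g (h : G))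
    from by ext; simp, Finset.sum_filter]
  refine Fintype.sum_equiv e.symm.toEquiv _ _ fun h => ?_
  have h2 : (((e.symm h : C) : N) : G) = (h : G) := by rw [← he, MulEquiv.apply_symm_apply]
  simp only [coeff_resCA, classSum_coeff, MulEquiv.toEquiv_eq_coe, EquivLike.coe_coe, h2, h1]
  split_ifs <;> simp [tirr]

theorem link_iff {H : Subgroup G} (ξ : IrrCharacter H) (χ : IrrCharacter G) (g : G) :
    bomega (M := M) ξ (rclass H M g) = bomega χ (zclass M g) ↔
      MemLocalIdeal M (inducedCentralChar H (ξ : H → ℂ) g - centralChar (χ : G → ℂ) g) := by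
  rw [bomega_apply, bomega_apply, ← memLocalIdeal_sub_iff, coe_zomega_rclass, coe_zomega_zclass]

/-- Transitivity of block induction. -/
theorem induced_iff {N : Subgroup G} {C : Subgroup N} {H : Subgroup G} (e : C ≃* H)
    (he : ∀ c : C, ((e c : H) : G) = ((c : N) : G)) {β : Set (IrrCharacter C)}
    {γ : Set (IrrCharacter N)} {B : Set (IrrCharacter G)} (hγ : IsInducedBlock M C β γ)
    (hB : IsPBlock M B) :
    IsInducedBlock M H (tblock e β) B ↔ IsInducedBlock M N γ B := by
  have hkey : ∀ ξ ∈ β, ∀ η ∈ γ, ∀ g, bomega (M := M) (tirr e ξ) (rclass H M g) =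
      bomega η (rclass N M g) := fun ξ hξ η hη g => by
    rw [bomega_tirr e he, bomega_resZ_of_isInduced hγ hξ hη]
  obtain ⟨ξ, hξ⟩ := IsPBlock.nonempty hγ.1
  obtain ⟨η, hη⟩ := IsPBlock.nonempty hγ.2.1
  have hmem : ∀ ξ ∈ β, tirr e ξ ∈ tblock e β := fun ξ hξ =>
    ⟨ξ, hξ, funext fun y => congrArg (ξ : C → ℂ) (e.symm_apply_apply y)⟩
  have hinv : ∀ ξ' : IrrCharacter H, tirr e (tirr e.symm ξ') = ξ' := fun ξ' =>
    Subtype.ext (funext fun y => congrArg (ξ' : H → ℂ) (e.apply_symm_apply y))
  constructor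
  · intro h
    refine ⟨hγ.2.1, hB, fun η' hη' χ hχ g => (link_iff η' χ g).mp ?_⟩
    rw [← hkey ξ hξ η' hη' g]
    exact (link_iff _ χ g).mpr (h.2.2 _ (hmem ξ hξ) χ hχ g)
  · intro h
    refine ⟨isPBlock_tblock e hγ.1, hB, fun ξ' hξ' χ hχ g => (link_iff ξ' χ g).mp ?_⟩
    rw [← hinv ξ', hkey _ ((mem_tblock e).mp hξ') η hη g]
    exact (link_iff _ χ g).mpr (h.2.2 η hη χ hχ g)

theorem tblock_symm {C H : Type*} [Group C] [Group H] [Fintype C] [Fintype H] (e : C ≃* H)
    (β : Set (IrrCharacter H)) : tblock e (tblock e.symm β) = β := by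
  ext χ
  rw [mem_tblock, mem_tblock]
  have h : tirr e.symm.symm (tirr e.symm χ) = χ :=
    Subtype.ext (funext fun y => congrArg (χ : H → ℂ) (e.apply_symm_apply y))
  rw [h]

/-- The blocks of `H` inducing `B` are those of `C` inducing a block of `N` which induces `B`. -/
theorem rankSum_trans (hM : IsPModular p M) {N : Subgroup G} {B : Set (IrrCharacter G)} (hB : IsPBlock M B)
    {g : N} (hg : ∃ k : ℕ, orderOf g = p ^ k) :
    ∑ γ ∈ (Set.toFinite {γ : Set (IrrCharacter N) | IsInducedBlock M N γ B}).toFinset,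
        rankSum p M (Subgroup.centralizer ({g} : Set N)) γ =
      rankSum p M (N ⊓ Subgroup.centralizer ({(g : G)} : Set G)) B := by
  obtain ⟨C, hC⟩ : ∃ C, C = Subgroup.centralizer ({g} : Set N) := ⟨_, rfl⟩
  obtain ⟨H, hH⟩ : ∃ H, H = N ⊓ Subgroup.centralizer ({(g : G)} : Set G) := ⟨_, rfl⟩
  rw [← hC, ← hH]
  have hmem : ∀ a : N, a ∈ C ↔ (a : G) ∈ H := fun a => by
    rw [hC, hH, Subgroup.mem_centralizer_singleton_iff, Subgroup.mem_inf,
      Subgroup.mem_centralizer_singleton_iff, Subtype.ext_iff, Subgroup.coe_mul, Subgroup.coe_mul]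
    exact ⟨fun h => ⟨a.2, h⟩, fun h => h.2⟩
  have hHN : H ≤ N := hH ▸ inf_le_left
  let e : C ≃* H :=
    { toFun := fun c => ⟨((c : N) : G), (hmem c).mp c.2⟩
      invFun := fun h => ⟨⟨h, hHN h.2⟩, (hmem _).mpr h.2⟩
      left_inv := fun c => rfl
      right_inv := fun h => rfl
      map_mul' := fun c d => rfl }
  have he : ∀ c : C, ((e c : H) : G) = ((c : N) : G) := fun c => rfl
  have hex : ∀ β : Set (IrrCharacter C), IsPBlock M β → ∃ γ, IsInducedBlock M C β γ := by
    subst hC
    exact fun β hβ => exists_inducedBlock_centralizer hM hg hβ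
  simp only [rankSum, finsum_mem_eq_finite_toFinset_sum _ (Set.toFinite _)]
  rw [← Finset.sum_biUnion fun γ _ γ' _ hne => Finset.disjoint_left.mpr fun β h h' => hne
    (inducedBlock_unique (M := M) C ((Set.Finite.mem_toFinset (Set.toFinite {β | IsInducedBlock M C β γ})).mp h)
      ((Set.Finite.mem_toFinset (Set.toFinite {β | IsInducedBlock M C β γ'})).mp h'))]
  refine Finset.sum_bij' (fun β _ => tblock e β) (fun β' _ => tblock e.symm β') (fun β hβ => ?_)
    (fun β' hβ' => ?_) (fun β _ => ?_) (fun β' _ => tblock_symm e β') (fun β _ => (blockRank_tblock e β).symm)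
  · obtain ⟨γ, hγ, hβγ⟩ := Finset.mem_biUnion.mp hβ
    rw [Set.Finite.mem_toFinset] at hγ hβγ ⊢
    exact (induced_iff e he hβγ hB).mpr hγ
  · rw [Set.Finite.mem_toFinset] at hβ'
    obtain ⟨γ, hγ⟩ := hex _ (isPBlock_tblock e.symm hβ'.1)
    have hβ'' : IsInducedBlock M H (tblock e (tblock e.symm β')) B := by rw [tblock_symm]; exact hβ'
    exact Finset.mem_biUnion.mpr ⟨γ, (Set.Finite.mem_toFinset _).mpr ((induced_iff e he hγ hB).mp hβ''),
      (Set.Finite.mem_toFinset _).mpr hγ⟩
  · have h := tblock_symm e.symm β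
    rwa [MulEquiv.symm_symm] at h

/-- **The count for the pull-back.** -/
theorem pull_count (hM : IsPModular p M) {B : Set (IrrCharacter G)} (hB : IsPBlock M B) (N : Subgroup G) :
    (Nat.card N : ℤ) * ((Nat.card (pull M N B) : ℤ) - (blockRank p (pull M N B) : ℤ)) =
      ∑ x ∈ Finset.univ.filter (fun x : G => x ∈ N ∧ x ≠ 1 ∧ ∃ k : ℕ, orderOf x = p ^ k),
        ((Nat.card (N ⊓ Subgroup.centralizer ({x} : Set G) : Subgroup G) *
          rankSum p M (N ⊓ Subgroup.centralizer ({x} : Set G)) B : ℕ) : ℤ) := by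
  obtain ⟨hl, hk⟩ := rankSum_eq hM N B
  have h1 : Nat.card N * Nat.card (pull M N B) =
      ∑ g ∈ Finset.univ.filter (fun g : N => ∃ k : ℕ, orderOf g = p ^ k),
        Nat.card (N ⊓ Subgroup.centralizer ({(g : G)} : Set G) : Subgroup G) *
          rankSum p M (N ⊓ Subgroup.centralizer ({(g : G)} : Set G)) B := by
    rw [hk, Finset.mul_sum, Finset.sum_congr rfl fun γ hγ =>
      (sum_elements hM (((Set.Finite.mem_toFinset _).mp hγ).1)).symm, Finset.sum_comm]
    refine Finset.sum_congr rfl fun g hg => ?_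
    rw [← Finset.mul_sum, rankSum_trans hM hB (Finset.mem_filter.mp hg).2]
    congr 1
    rw [← Subgroup.card_map_of_injective (K := Subgroup.centralizer ({g} : Set N))
      (f := N.subtype) N.subtype_injective]
    congr 2
    ext z
    simp only [Subgroup.mem_map, Subgroup.mem_inf, Subgroup.mem_centralizer_singleton_iff, Subgroup.coe_subtype]
    exact ⟨fun ⟨a, ha, h⟩ => h ▸ ⟨a.2, congrArg Subtype.val ha⟩,
      fun h => ⟨⟨z, h.1⟩, Subtype.ext h.2, rfl⟩⟩
  have hone : (1 : N) ∈ Finset.univ.filter (fun g : N => ∃ k : ℕ, orderOf g = p ^ k) :=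
    Finset.mem_filter.mpr ⟨Finset.mem_univ _, 0, by rw [pow_zero]; exact orderOf_one⟩
  rw [← Finset.add_sum_erase _ _ hone] at h1
  have hN1 : N ⊓ Subgroup.centralizer ({((1 : N) : G)} : Set G) = N :=
    inf_eq_left.mpr fun a _ => Subgroup.mem_centralizer_singleton_iff.mpr (by simp)
  rw [hN1, hl] at h1
  have h2 : ∑ g ∈ (Finset.univ.filter (fun g : N => ∃ k : ℕ, orderOf g = p ^ k)).erase 1,
      Nat.card (N ⊓ Subgroup.centralizer ({(g : G)} : Set G) : Subgroup G) *
        rankSum p M (N ⊓ Subgroup.centralizer ({(g : G)} : Set G)) B =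
      ∑ x ∈ Finset.univ.filter (fun x : G => x ∈ N ∧ x ≠ 1 ∧ ∃ k : ℕ, orderOf x = p ^ k),
        Nat.card (N ⊓ Subgroup.centralizer ({x} : Set G) : Subgroup G) *
          rankSum p M (N ⊓ Subgroup.centralizer ({x} : Set G)) B := by
    refine Finset.sum_bij (fun g _ => (g : G)) (fun g hg => ?_) (fun _ _ _ _ h => Subtype.ext h)
      (fun x hx => ?_) (fun _ _ => rfl)
    · obtain ⟨h3, h4⟩ := Finset.mem_erase.mp hg
      exact Finset.mem_filter.mpr ⟨Finset.mem_univ _, g.2, fun h => h3 (Subtype.ext h), by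
        simpa [Subgroup.orderOf_coe] using (Finset.mem_filter.mp h4).2⟩
    · obtain ⟨-, hxN, hx1, hxk⟩ := Finset.mem_filter.mp hx
      exact ⟨⟨x, hxN⟩, Finset.mem_erase.mpr ⟨fun h => hx1 (congrArg Subtype.val h), Finset.mem_filter.mpr
        ⟨Finset.mem_univ _, by simpa [Subgroup.orderOf_mk] using hxk⟩⟩, rfl⟩
  rw [← Nat.cast_sum, ← h2]
  have h3 := congrArg (Nat.cast : ℕ → ℤ) h1
  push_cast at h3 ⊢
  linear_combination h3

theorem zclass_ext {χ ψ : IrrCharacter G}
    (h : ∀ g, bomega (M := M) χ (zclass M g) = bomega ψ (zclass M g)) : bomega (M := M) χ = bomega ψ := by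
  have : Finite (ConjClasses G) := Finite.of_surjective _ ConjClasses.mk_surjective
  have := Fintype.ofFinite (ConjClasses G)
  refine RingHom.ext fun a => ?_
  rw [Zint_eq_sum a, map_sum, map_sum]
  exact Finset.sum_congr rfl fun C _ => by rw [map_mul, map_mul, bomega_scal, bomega_scal, h]

theorem link_top {H : Subgroup G} (e : H ≃* G) (he : ∀ h : H, e h = (h : G)) (ξ : IrrCharacter H) (g : G) :
    bomega (M := M) ξ (rclass H M g) = bomega (tirr e ξ) (zclass M g) := by
  rw [bomega_apply, bomega_apply]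
  congr 1
  apply Subtype.ext
  rw [coe_zomega, rclass, coe_resZ, coe_zomega, omega, omega, charLin_apply, charLin_apply]
  refine congrArg₂ (· / ·) (Fintype.sum_equiv e.toEquiv _ _ fun h => ?_)
    (congrArg (ξ : H → ℂ) (map_one e.symm)).symm
  rw [MulEquiv.toEquiv_eq_coe, EquivLike.coe_coe, coeff_resCA]
  show _ = _ * (ξ : H → ℂ) (e.symm (e h))
  rw [MulEquiv.symm_apply_apply, he]

theorem rankSum_top {H : Subgroup G} (e : H ≃* G) (he : ∀ h : H, e h = (h : G)) {B : Set (IrrCharacter G)}
    (hB : IsPBlock M B) : rankSum p M H B = blockRank p B := by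
  have hset : {β : Set (IrrCharacter H) | IsInducedBlock M H β B} = {tblock e.symm B} := by
    have hBt : IsInducedBlock M H (tblock e.symm B) B := by
      refine ⟨isPBlock_tblock _ hB, hB, fun ξ hξ χ hχ g => (link_iff ξ χ g).mp ?_⟩
      rw [link_top e he]
      have h1 := (mem_tblock _).mp hξ
      rw [MulEquiv.symm_symm] at h1
      rw [bomega_eq_of_mem hB h1 hχ]
    refine Set.ext fun β => ⟨fun hβ => ?_, fun hβ => hβ ▸ hBt⟩
    obtain ⟨ξ, hξ⟩ := IsPBlock.nonempty hβ.1
    obtain ⟨χ, hχ⟩ := IsPBlock.nonempty hB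
    have h2 : tirr e ξ ∈ B := mem_of_bomega_eq hB hχ (zclass_ext fun g => by
      rw [← link_top e he]; exact ((link_iff ξ χ g).mpr (hβ.2.2 ξ hξ χ hχ g)).symm)
    exact isPBlock_eq_of_mem hβ.1 (isPBlock_tblock _ hB) hξ ((mem_tblock _).mpr (by
      rw [MulEquiv.symm_symm]; exact h2))
  rw [rankSum, hset, finsum_mem_singleton, blockRank_tblock]

/-- The count for the block itself. -/
theorem block_count (hM : IsPModular p M) {B : Set (IrrCharacter G)} (hB : IsPBlock M B) :
    (Nat.card G : ℤ) * ((Nat.card B : ℤ) - (blockRank p B : ℤ)) =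
      ∑ x ∈ Finset.univ.filter (fun x : G => x ≠ 1 ∧ ∃ k : ℕ, orderOf x = p ^ k),
        ((Nat.card (Subgroup.centralizer ({x} : Set G)) *
          rankSum p M (Subgroup.centralizer ({x} : Set G)) B : ℕ) : ℤ) := by
  have h := sum_elements hM hB
  have hone : (1 : G) ∈ Finset.univ.filter (fun g : G => ∃ k : ℕ, orderOf g = p ^ k) :=
    Finset.mem_filter.mpr ⟨Finset.mem_univ _, 0, by rw [pow_zero]; exact orderOf_one⟩
  rw [← Finset.add_sum_erase _ _ hone] at h
  have herase : (Finset.univ.filter (fun g : G => ∃ k : ℕ, orderOf g = p ^ k)).erase 1 =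
      Finset.univ.filter (fun x : G => x ≠ 1 ∧ ∃ k : ℕ, orderOf x = p ^ k) := by ext x; simp [and_comm]
  rw [herase] at h
  have hC1 : Subgroup.centralizer ({(1 : G)} : Set G) = ⊤ :=
    eq_top_iff.mpr fun a _ => Subgroup.mem_centralizer_singleton_iff.mpr (by simp)
  have hl1 : rankSum p M (Subgroup.centralizer ({(1 : G)} : Set G)) B = blockRank p B := by
    rw [hC1]; exact rankSum_top Subgroup.topEquiv (fun _ => rfl) hB
  rw [hl1, hC1, Subgroup.card_top] at h
  have h3 := congrArg (Nat.cast : ℕ → ℤ) h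
  rw [← Nat.cast_sum]
  push_cast at h3 ⊢
  linear_combination -h3

end CfsgLib.Blocks.ChainSum
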